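import Groth.Agent.AVPhi.Fibres
import Groth.Agent.AVTors.Points
import Groth.Agent.QCoh.RpushExchange2
import Groth.Agent.Lib.AVPair

/-!
The translates of a nondegenerate invertible module fill out the invariant classes.
-/

set_option linter.style.haveILetI false
set_option linter.unusedSectionVars false
set_option backward.isDefEq.respectTransparency false
set_option backward.isDefEq.respectTransparency.types false
set_option autoImplicit false

universe u

open CategoryTheory CategoryTheory.Limits MonoidalCategory CartesianMonoidalCategory MonObj AlgebraicGeometry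
open TopologicalSpace

namespace Groth.Agent.AVPhi

open Groth.Agent.H23 Groth.Agent.H23.TrivBasic Groth.Agent.InvX Groth.Agent.AVPair Groth.Agent.AVAmple
open scoped Groth.Agent.H23.PicMul

variable {k : Type u} [Field k] [IsAlgClosed k] {A : Over (Spec (CommRingCat.of k))} [GrpObj A] [IsProper A.hom]
  [GeometricallyIntegral A.hom]

/-- Invariant classes form a group stable under translation. -/
theorem invariant_diff {c d m : PicF.Cl A.left} (hc : PicF.IsInvertibleCl c) (hcd : c * d = 1)
    (hm : ∀ a : 𝟙_ (Over (Spec (CommRingCat.of k))) ⟶ A, pl (tr a) m = m)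
    (x a : 𝟙_ (Over (Spec (CommRingCat.of k))) ⟶ A) :
    pl (tr a) (pl (tr x) c * (d * m)) = pl (tr x) c * (d * m) := by
  haveI : IsCommMonObj A := isCommMonObj_of_isProper_of_geometricallyIntegral A
  have hd : pl (tr a) c * pl (tr a) d = 1 := by rw [← map_mul, hcd, map_one]
  have hsq := CubeAb.square (A := A) hc x a
  have hid : CubeAb.F c (𝟙 A) = c := pl_id c
  have h2 : pl (tr (x * a)) c * c = pl (tr x) c * pl (tr a) c := hsq
  simp only [map_mul, pl_pl, tr_tr, hm]
  rw [mul_comm a x]
  calc pl (tr (x * a)) c * (pl (tr a) d * m) = pl (tr (x * a)) c * (c * d) * (pl (tr a) d * m) := by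
        rw [hcd, _root_.mul_one]
    _ = (pl (tr (x * a)) c * c) * (d * (pl (tr a) d * m)) := by simp only [_root_.mul_assoc]
    _ = (pl (tr x) c * pl (tr a) c) * (d * (pl (tr a) d * m)) := by rw [h2]
    _ = pl (tr x) c * (d * ((pl (tr a) c * pl (tr a) d) * m)) := by
        simp only [_root_.mul_assoc, mul_comm, mul_left_comm]
    _ = pl (tr x) c * (d * m) := by rw [hd, _root_.one_mul]

theorem comp_braiding (a : 𝟙_ (Over (Spec (CommRingCat.of k))) ⟶ A) :
    lift (𝟙 A) (toUnit A ≫ a) ≫ (fst A A * snd A A) = tr a := by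
  rw [MonObj.comp_mul, lift_fst, lift_snd]

/-- A class on the square restricted to a slice. -/
theorem pl_slice {c u v : PicF.Cl A.left} (hv : PicF.IsInvertibleCl v)
    (a : 𝟙_ (Over (Spec (CommRingCat.of k))) ⟶ A) :
    pl (slice A A a) (pl (fst A A * snd A A) c * pl (fst A A) u * pl (snd A A) v) = pl (tr a) c * u := by
  simp only [map_mul, pl_pl]
  rw [comp_braiding, lift_fst, pl_id, lift_snd, pl_const hv a, _root_.mul_one]

/-- A free module on a nonempty scheme vanishes only in rank zero. -/
theorem eq_zero_of_isZero_freeMod {X : Scheme.{u}} {n : ℕ} (hX : Nonempty X)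
    (h : IsZero (FlatMod.freeMod X n)) : n = 0 := by
  by_contra hn
  let jι := Sigma.ι (fun _ : Fin n => Coh.structureModule X) ⟨0, Nat.pos_of_ne_zero hn⟩
  have h2 : 𝟙 (Coh.structureModule X) = 0 := by
    have := congrArg (· ≫ Sigma.desc fun _ : Fin n => 𝟙 (Coh.structureModule X)) (h.eq_of_tgt jι 0)
    simpa [jι] using this
  obtain ⟨x⟩ := hX
  have h4 := congrArg (X.presheaf.germ ⊤ x trivial) (show (1 : Γ(X, ⊤)) = 0 from congr(($h2).app ⊤ (1 : Γ(X, ⊤))))
  rw [map_one, map_zero] at h4
  exact one_ne_zero h4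

/-- An inverse class. -/
theorem exists_module {c : PicF.Cl A.left} (hc : PicF.IsInvertibleCl c) :
    ∃ N : A.left.Modules, PicF.IsInvertible N ∧ PicF.cl N = c := by
  obtain ⟨N, rfl, hN⟩ := hc
  exact ⟨N, hN, rfl⟩

/-- Translates of a nondegenerate class fill out the invariant classes. -/
theorem exists_translate_eq {c m : PicF.Cl A.left} (hc : PicF.IsInvertibleCl c) (hm : PicF.IsInvertibleCl m)
    (hnd : Set.Finite {a : 𝟙_ (Over (Spec (CommRingCat.of k))) ⟶ A | pl (tr a) c = c})
    (hinv : ∀ a : 𝟙_ (Over (Spec (CommRingCat.of k))) ⟶ A, pl (tr a) m = m) :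
    ∃ x : 𝟙_ (Over (Spec (CommRingCat.of k))) ⟶ A, pl (tr x) c = c * m := by
  classical
  haveI : IsCommMonObj A := isCommMonObj_of_isProper_of_geometricallyIntegral A
  haveI : IsIntegral A.left := GeometricallyIntegral.isIntegral_of_subsingleton A.hom
  haveI : Nonempty A.left := ⟨η[A].left (IsLocalRing.closedPoint k)⟩
  haveI : IsLocallyNoetherian A.left := LocallyOfFiniteType.isLocallyNoetherian A.hom
  haveI : IsProper (snd A A).left := inferInstanceAs (IsProper (pullback.snd A.hom A.hom))
  haveI : Flat (snd A A).left := inferInstanceAs (Flat (pullback.snd A.hom A.hom))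
  haveI : IsLocallyNoetherian (A ⊗ A).left := LocallyOfFiniteType.isLocallyNoetherian (snd A A).left
  haveI : HasInjectiveResolutions (A ⊗ A).left.Modules := KFlatLib.hasInjectiveResolutions_modules
  by_contra hno
  push Not at hno
  obtain ⟨d, hd, hcd⟩ := exists_inv hc
  obtain ⟨m', hm', hmm⟩ := exists_inv hm
  have hm'inv : ∀ a : 𝟙_ (Over (Spec (CommRingCat.of k))) ⟶ A, pl (tr a) m' = m' := fun a => by
    have h := congrArg (pl (tr a)) hmm
    rw [map_mul, map_one, hinv] at h
    exact left_inv_eq_right_inv (a := m) ((mul_comm _ _).trans h) hmm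
  have hcl : ∀ {u v : PicF.Cl A.left}, PicF.IsInvertibleCl u → PicF.IsInvertibleCl v →
      PicF.IsInvertibleCl (pl (fst A A * snd A A) c * pl (fst A A) u * pl (snd A A) v) := fun hu hv =>
    PicMul.isInvertibleCl_mul (PicMul.isInvertibleCl_mul (isInv_pl _ hc) (isInv_pl _ hu)) (isInv_pl _ hv)
  have hdm := PicMul.isInvertibleCl_mul hd hm'
  obtain ⟨Ka, hKac, hKa⟩ := hcl hdm hd
  obtain ⟨Kb, hKbc, hKb⟩ := hcl hd hdm
  -- the acyclicity of slices
  have hslice : ∀ (K : (A ⊗ A).left.Modules) (_ : PicF.IsInvertible K) (u v : PicF.Cl A.left)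
      (_ : PicF.IsInvertibleCl v) (_ : ∀ a, pl (tr a) u = u)
      (_ : PicF.cl K = pl (fst A A * snd A A) c * pl (fst A A) (d * u) * pl (snd A A) v)
      (a : 𝟙_ (Over (Spec (CommRingCat.of k))) ⟶ A) (_ : pl (tr a) c * (d * u) ≠ 1) (i : ℕ),
      Subsingleton (Coh.HH A.left ((Scheme.Modules.pullback (slice A A a).left).obj K) i) := by
    intro K hK u v hv hu hKc a hne i
    have he : PicF.cl ((Scheme.Modules.pullback (slice A A a).left).obj K) = pl (tr a) c * (d * u) := by
      show pl (slice A A a) (PicF.cl K) = _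
      rw [hKc, pl_slice hv]
    refine subsingleton_HH_of_invariant (PicClLib.isInvertible_pullback _ hK) (fun b => ?_) (fun ht => hne ?_) i
    · rw [he]
      exact invariant_diff hc hcd hu a b
    · rw [← he]
      exact (CubeAb.cl_eq_one_iff _).2 ht
  -- the first module has no cohomology at all
  have hRa : ∀ p, IsZero ((Coh.Rpush (snd A A).left p).obj Ka) := fun p => by
    refine isZero_of_stalks fun y => subsingleton_stalk_Rpush_of_slices A A Ka hKa Set.finite_empty
      (fun x hx => hx.elim) (fun a _ i => hslice Ka hKa m' d hd hm'inv hKac a (fun h => hno a ?_) i) p y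
      (Set.notMem_empty y)
    calc pl (tr a) c = pl (tr a) c * (d * m') * (c * m) := by
          rw [show pl (tr a) c * (d * m') * (c * m) = pl (tr a) c * ((c * d) * (m * m')) by
            simp only [_root_.mul_assoc, mul_comm, mul_left_comm], hcd, hmm, _root_.mul_one, _root_.mul_one]
      _ = c * m := by rw [h, _root_.one_mul]
  have hHa : ∀ n, Subsingleton (Coh.HH (A ⊗ A).left Ka n) := fun n => by
    have hf := (CExt24.bijective_pushEdge (snd A A).left Ka (fun q _ => hRa q) n).surjective
    haveI := SpObjSS.enoughInjectives_of_hasInjectiveResolutions (C := (A ⊗ A).left.Modules)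
    haveI := QCoh.preservesFiniteLimits_push (snd A A).left
    have hz : IsZero ((Scheme.Modules.pushforward (snd A A).left).obj Ka) :=
      (hRa 0).of_iso ((Scheme.Modules.pushforward (snd A A).left).rightDerivedZeroIsoSelf.app Ka).symm
    haveI : Subsingleton (Coh.HH A.left ((Scheme.Modules.pushforward (snd A A).left).obj Ka) n) :=
      subsingleton_HH_of_isZero hz n
    exact hf.subsingleton
  -- hence neither has the second
  haveI : IsIso (β_ A A).hom.left := ((Over.forget _).mapIso (β_ A A)).isIso_hom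
  have hHb : ∀ n, Subsingleton (Coh.HH (A ⊗ A).left Kb n) := fun n => by
    have e : (Scheme.Modules.pullback (β_ A A).hom.left).obj Ka ≅ Kb := by
      refine (PicMul.cl_eq_iff.1 ?_).some
      show pl (β_ A A).hom (PicF.cl Ka) = PicF.cl Kb
      rw [hKac, hKbc]
      simp only [map_mul, pl_pl, MonObj.comp_mul, braiding_hom_fst, braiding_hom_snd]
      rw [mul_comm (snd A A) (fst A A)]
      simp only [_root_.mul_assoc, mul_comm, mul_left_comm]
    exact QCoh.subsingleton_HH_of_iso e n
      ((subsingleton_HH_iff_pullback _ (ProjUPX.isQCoh_of_isInvertible hKa) n).2 (hHa n))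
  -- the second has finitely supported direct images
  let T : Set A.left := (fun a : 𝟙_ (Over (Spec (CommRingCat.of k))) ⟶ A => a.left (IsLocalRing.closedPoint k)) ''
    {a | pl (tr a) c = c}
  have hTc : ∀ y ∈ T, IsClosed ({y} : Set A.left) := by
    rintro _ ⟨a, -, rfl⟩
    exact isClosed_pt a
  have hst : ∀ p, ∀ y ∉ T, Subsingleton (((Coh.Rpush (snd A A).left p).obj Kb).presheaf.stalk y) := fun p y hy =>
    subsingleton_stalk_Rpush_of_slices A A Kb hKb (hnd.image _) hTc (fun a ha i =>
      hslice Kb hKb 1 (d * m') hdm (fun _ => map_one _) (by rw [hKbc, _root_.mul_one]) a (fun h => ha ⟨a, by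
        calc pl (tr a) c = pl (tr a) c * (d * 1) * c := by
              rw [_root_.mul_one, _root_.mul_assoc, mul_comm d c, hcd, _root_.mul_one]
          _ = c := by rw [h, _root_.one_mul], rfl⟩) i) p y hy
  have hRb : ∀ p, IsZero ((Coh.Rpush (snd A A).left p).obj Kb) := fun p => by
    refine isZero_of_finite_of_sections (hnd.image _) hTc (hst p) ?_
    cases p with
    | zero =>
      haveI := SpObjSS.enoughInjectives_of_hasInjectiveResolutions (C := (A ⊗ A).left.Modules)
      haveI := QCoh.preservesFiniteLimits_push (snd A A).left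
      haveI : Subsingleton Γ((Scheme.Modules.pushforward (snd A A).left).obj Kb, ⊤) :=
        @Equiv.subsingleton _ _ (Sheaf.H.equiv₀ (Coh.toAb Kb) isTerminalTop).symm.toEquiv (hHb 0)
      exact (ConcreteCategory.bijective_of_isIso
        (((Scheme.Modules.pushforward (snd A A).left).rightDerivedZeroIsoSelf.app Kb).hom.app ⊤)).injective.subsingleton
    | succ n =>
      exact subsingleton_sections_Rpush _ n Kb
        (fun q j => CurveVanish.subsingleton_HH_of_finite (hnd.image _) hTc (hst q) j) (hHb (n + 1))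
  -- but the fibre over the unit is trivial
  let o : 𝟙_ (Over (Spec (CommRingCat.of k))) ⟶ A := 1
  let y₀ := o.left (IsLocalRing.closedPoint k)
  have hKcoh := CurveDeg.isCoh_of_isInvertible hKb
  have hfl : FlatMod.IsFlatOver (snd A A).left Kb := H23.Seesaw.isFlatOver_of_isInvertible _ hKb
  have hsub : Subsingleton (CohIII.fiberH (snd A A).left Kb y₀ 0) := by
    obtain ⟨U, hU, ⟨e⟩⟩ := QCoh.exists_free_of_concentrated hKcoh hfl 0 y₀ fun i hi =>
      QCoh.concentrated_of_isZero_Rpush hKcoh hfl (fun i _ => hRb i) y₀ i hi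
    have h0 : CohIII.fiberRank (snd A A).left Kb 0 y₀ = 0 :=
      eq_zero_of_isZero_freeMod (Nonempty.intro (⟨y₀, hU⟩ : {z // z ∈ U}))
        (((Scheme.Modules.restrictFunctor U.ι).map_isZero (hRb 0)).of_iso e.symm)
    obtain ⟨_, ⟨V, hV, rfl⟩, hy, -⟩ :=
      A.left.isBasis_affineOpens.exists_subset_of_mem_open (Set.mem_univ y₀) isOpen_univ
    have hV' : IsAffineOpen V := hV
    haveI : IsNoetherianRing Γ(A.left, V) := IsLocallyNoetherian.component_noetherian ⟨V, hV'⟩
    obtain ⟨P, hP⟩ := QCoh.exists_isLocalModel hKcoh hfl hV'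
    haveI := (hP.2.2.2.2.2 0 y₀ hy).2
    exact Module.finrank_zero_iff.1 h0
  have htriv : Triv ((Scheme.Modules.pullback (slice A A o).left).obj Kb) := by
    refine (CubeAb.cl_eq_one_iff _).1 ?_
    show pl (slice A A o) (PicF.cl Kb) = 1
    rw [hKbc, pl_slice hdm, show tr o = 𝟙 A from tr_one, pl_id, hcd]
  exact not_subsingleton_HH_zero_structure A (QCoh.subsingleton_HH_of_iso htriv.some 0
    ((subsingleton_fiberH_iff_slice A A Kb (ProjUPX.isQCoh_of_isInvertible hKb) o 0).1 hsub))

end Groth.Agent.AVPhi
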