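import Groth.Agent.AVPhi.Main
import Groth.Agent.AVSupp.Fixing
import Groth.Agent.Lib.AVDecomp

/-!
Module forms of the surjectivity of translates.
-/

set_option linter.style.haveILetI false
set_option linter.unusedSectionVars false
set_option backward.isDefEq.respectTransparency false
set_option backward.isDefEq.respectTransparency.types false
set_option autoImplicit false

universe u

open CategoryTheory CategoryTheory.Limits MonoidalCategory CartesianMonoidalCategory MonObj AlgebraicGeometry
open TopologicalSpace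

namespace Groth.Agent.AVPhi

open Groth.Agent.H23 Groth.Agent.H23.TrivBasic Groth.Agent.InvX Groth.Agent.AVPair Groth.Agent.AVAmple
open scoped Groth.Agent.H23.PicMul

variable {k : Type u} [Field k] [IsAlgClosed k] {A : Over (Spec (CommRingCat.of k))} [GrpObj A] [IsProper A.hom]
  [GeometricallyIntegral A.hom]

theorem nonempty_iso_iff {L M : A.left.Modules} (φ : A ⟶ A) :
    Nonempty ((Scheme.Modules.pullback φ.left).obj L ≅ M) ↔ pl φ (PicF.cl L) = PicF.cl M :=
  PicMul.cl_eq_iff.symm

/-- Translates of a nondegenerate module fill out its twists by invariant modules. -/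
theorem exists_translate_iso {L M : A.left.Modules} (hL : PicF.IsInvertible L) (hM : PicF.IsInvertible M)
    (hnd : Set.Finite {a : 𝟙_ (Over (Spec (CommRingCat.of k))) ⟶ A |
      Nonempty ((Scheme.Modules.pullback (tr a).left).obj L ≅ L)})
    (hinv : ∀ a : 𝟙_ (Over (Spec (CommRingCat.of k))) ⟶ A,
      Nonempty ((Scheme.Modules.pullback (tr a).left).obj M ≅ M)) :
    ∃ x : 𝟙_ (Over (Spec (CommRingCat.of k))) ⟶ A,
      Nonempty ((Scheme.Modules.pullback (tr x).left).obj L ≅ CohB1.tensorMod L M) := by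
  obtain ⟨x, hx⟩ := exists_translate_eq ⟨L, rfl, hL⟩ ⟨M, rfl, hM⟩
    (hnd.subset fun a ha => (nonempty_iso_iff _).2 ha) (fun a => (nonempty_iso_iff _).1 (hinv a))
  exact ⟨x, (nonempty_iso_iff _).2 (hx.trans (PicMul.cl_tensor L M).symm)⟩

/-- Ample modules are nondegenerate. -/
theorem finite_fixing_of_ample {L : A.left.Modules} (hL : CohB1.IsAmple L) :
    Set.Finite {a : 𝟙_ (Over (Spec (CommRingCat.of k))) ⟶ A |
      Nonempty ((Scheme.Modules.pullback (tr a).left).obj L ≅ L)} := by
  haveI : IsIntegral A.left := GeometricallyIntegral.isIntegral_of_subsingleton A.hom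
  obtain ⟨x⟩ : Nonempty A.left := inferInstance
  obtain ⟨n, s, hxs, -⟩ := hL.2.2 x
  have hL' := AmpleX.isAmple_tensorPow hL n.succ_pos
  refine (AVSupp.finite_fixing_of_isAmple hL' (s := one s) (AVProj.ne_zero_of_mem_locus (x := x) ?_)).subset
    fun a ha => ?_
  · show x ∈ CohB1.genLocus _ (ofSect (one s))
    rwa [ofSect_one]
  · show pl (tr a) (PicF.cl (CohB1.tensorPow L _)) = PicF.cl (CohB1.tensorPow L _)
    rw [PicMul.cl_tensorPow, map_pow, (nonempty_iso_iff _).1 ha]

/-- Modules algebraically equivalent to zero are invariant. -/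
theorem invariant_of_algEquivZero {M : A.left.Modules} (hM : PicF.IsInvertible M)
    (h : @Pic13.IsAlgEquivZero k _ A.left ⟨A.hom⟩ M) (a : 𝟙_ (Over (Spec (CommRingCat.of k))) ⟶ A) :
    Nonempty ((Scheme.Modules.pullback (tr a).left).obj M ≅ M) := by
  refine (nonempty_iso_iff _).2 ?_
  have := AVDecomp.additive hM h (𝟙 A) (toUnit A ≫ a)
  rwa [pl_id, pl_const ⟨M, rfl, hM⟩ a, _root_.mul_one] at this

/-- Cancelling the original module. -/
theorem nonempty_iso_of_cancel {L L' M T : A.left.Modules}
    (hLL' : Nonempty (CohB1.tensorMod L L' ≅ Coh.structureModule A.left))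
    (h : Nonempty (T ≅ CohB1.tensorMod L M)) : Nonempty (M ≅ CohB1.tensorMod T L') := by
  refine PicMul.cl_eq_iff.1 ?_
  rw [PicMul.cl_tensor, PicMul.cl_eq_iff.2 h, PicMul.cl_tensor, mul_comm (PicF.cl L) (PicF.cl M), _root_.mul_assoc,
    ← PicMul.cl_tensor, PicMul.cl_eq_iff.2 hLL']
  exact (_root_.mul_one _).symm

end Groth.Agent.AVPhi
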