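import Groth.Agent.CExt24.PushEdge
import Groth.Agent.QCoh.HHExact
import Groth.Agent.QCoh.RpushGod
import Groth.Agent.QCoh.OpenSub
import Groth.Agent.Lib.CurveVanish

/-!
Degeneration of the Leray sequence when the higher direct images are acyclic.
-/

set_option linter.style.haveILetI false
set_option linter.unusedSectionVars false
set_option backward.isDefEq.respectTransparency false
set_option backward.isDefEq.respectTransparency.types false
set_option autoImplicit false

universe u

open CategoryTheory CategoryTheory.Limits CategoryTheory.Abelian AlgebraicGeometry TopologicalSpace Opposite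

namespace Groth.Agent.AVPhi

variable {X : Scheme.{u}}

theorem subsingleton_H_X₃ {Y : TopCat.{u}} {T : ShortComplex (CohTop.Ab Y)} (hT : T.ShortExact)
    (n : ℕ) (h₂ : Subsingleton (CohTop.H T.X₂ n)) (h₁ : Subsingleton (CohTop.H T.X₁ (n + 1))) :
    Subsingleton (CohTop.H T.X₃ n) := by
  refine subsingleton_of_forall_eq 0 fun x => ?_
  obtain ⟨y, hy⟩ := Ext.covariant_sequence_exact₃ _ hT x rfl (h₁.elim _ _)
  rw [← hy, h₂.elim y 0]
  exact Ext.zero_comp _ _ _ _ _

theorem subsingleton_HH_X₃ {S : ShortComplex X.Modules} (hS : S.ShortExact) (n : ℕ)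
    (h₂ : Subsingleton (Coh.HH X S.X₂ n)) (h₁ : Subsingleton (Coh.HH X S.X₁ (n + 1))) :
    Subsingleton (Coh.HH X S.X₃ n) :=
  subsingleton_H_X₃ (Y := X.toPresheafedSpace.carrier) (T := S.map (QCoh.toAbFunctor X))
    (QCoh.toAb_shortExact hS) n h₂ h₁

variable {Y : Scheme.{u}} (f : X ⟶ Y) [HasInjectiveResolutions X.Modules]

/-- When all higher direct images are acyclic, vanishing cohomology kills their sections. -/
theorem subsingleton_sections_Rpush (n : ℕ) (G : X.Modules)
    (hR : ∀ q j : ℕ, Subsingleton (Coh.HH Y ((Coh.Rpush f q).obj G) (j + 1)))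
    (hn : Subsingleton (Coh.HH X G (n + 1))) : Subsingleton Γ((Coh.Rpush f (n + 1)).obj G, ⊤) := by
  haveI := SpObjSS.enoughInjectives_of_hasInjectiveResolutions (C := X.Modules)
  haveI := QCoh.preservesFiniteLimits_push f
  induction n generalizing G with
  | zero | succ n ih =>
    let F := Scheme.Modules.pushforward f
    let S := ShortComplex.mk (Injective.ι G) (cokernel.π (Injective.ι G)) (cokernel.condition _)
    have hS : S.ShortExact := { exact := ShortComplex.exact_of_g_is_cokernel _ (cokernelIsCokernel _) }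
    haveI : Injective S.X₂ := inferInstanceAs (Injective (Injective.under G))
    have hfl := QCoh.isFlasqueMod_of_injective S.X₂
    have hI : ∀ q : ℕ, IsZero ((Coh.Rpush f (q + 1)).obj S.X₂) := fun q =>
      F.isZero_rightDerived_obj_injective_succ q _
    haveI : Mono S.f := hS.mono_f
    let b := F.map S.g
    let Q := Abelian.image b
    let e := Abelian.factorThruImage b
    have hex : (ShortComplex.mk (F.map S.f) b (by rw [← F.map_comp, S.zero, F.map_zero])).Exact :=
      (S.map F).exact_of_f_is_kernel (isLimitForkMapOfIsLimit' F S.zero hS.fIsKernel)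
    have w : F.map S.f ≫ e = 0 := by
      rw [← cancel_mono (Abelian.image.ι b), Category.assoc, Abelian.image.fac, zero_comp, ← F.map_comp, S.zero,
        F.map_zero]
    have hS₁ : (ShortComplex.mk (F.map S.f) e w).ShortExact := by
      refine { exact := ?_, mono_f := inferInstance, epi_g := inferInstance }
      let φ : ShortComplex.mk (F.map S.f) e w ⟶
          ShortComplex.mk (F.map S.f) b (by rw [← F.map_comp, S.zero, F.map_zero]) :=
        { τ₁ := 𝟙 _, τ₂ := 𝟙 _, τ₃ := Abelian.image.ι b, comm₁₂ := by simp, comm₂₃ := by simp [e] }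
      haveI : Epi φ.τ₁ := inferInstanceAs (Epi (𝟙 _))
      haveI : IsIso φ.τ₂ := inferInstanceAs (IsIso (𝟙 _))
      haveI : Mono φ.τ₃ := inferInstanceAs (Mono (Abelian.image.ι b))
      exact (ShortComplex.exact_iff_of_epi_of_isIso_of_mono φ).2 hex
    have w₂ : Abelian.image.ι b ≫ cokernel.π b = 0 := kernel.condition _
    have hS₂ : (ShortComplex.mk (Abelian.image.ι b) (cokernel.π b) w₂).ShortExact :=
      { exact := ShortComplex.exact_of_f_is_kernel _ (kernelIsKernel _) }
    obtain ⟨e₁⟩ := QCoh.nonempty_R1_iso F hS (hI 0)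
    have hG0 : ∀ j, Subsingleton (Coh.HH Y (F.obj G) (j + 1)) := fun j =>
      QCoh.subsingleton_HH_of_iso (F.rightDerivedZeroIsoSelf.app G) _ (hR 0 j)
    have hQ : ∀ j, Subsingleton (Coh.HH Y Q (j + 1)) := fun j =>
      subsingleton_HH_X₃ hS₁ _ (CExt24.subsingleton_HH_of_flasque _ (CExt24.isFlasqueMod_push f _ hfl) j)
        (hG0 (j + 1))
    first
    | -- the first higher direct image
      have h1 := QCoh.app_top_surjective_of_HH_one hS hn
      have h2 := QCoh.app_top_surjective_of_HH_one hS₂ (hQ 0)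
      haveI : Subsingleton Γ(cokernel b, ⊤) := subsingleton_of_forall_eq 0 fun z => by
        obtain ⟨y, hy⟩ := h2 z
        obtain ⟨x, hx⟩ := h1 y
        rw [← hy]
        exact (congrArg ((cokernel.π b).app ⊤) hx.symm).trans (congr(($(cokernel.condition b)).app ⊤ x))
      exact (ConcreteCategory.bijective_of_isIso (e₁.hom.app ⊤)).injective.subsingleton
    | -- dimension shift
      have hsh : ∀ q, Nonempty ((Coh.Rpush f (q + 1)).obj S.X₃ ≅ (Coh.Rpush f (q + 2)).obj G) := fun q =>
        QCoh.nonempty_shift_iso F hS q (hI q) (hI (q + 1))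
      obtain ⟨e₂⟩ := hsh n
      haveI : Subsingleton Γ((Coh.Rpush f (n + 1)).obj S.X₃, ⊤) := ih S.X₃ (fun q j => by
          cases q with
          | zero =>
            refine QCoh.subsingleton_HH_of_iso (F.rightDerivedZeroIsoSelf.app S.X₃).symm _ ?_
            exact QCoh.subsingleton_HH_X₂ hS₂ _ (hQ j) (QCoh.subsingleton_HH_of_iso e₁ _ (hR 1 j))
          | succ q =>
            obtain ⟨e₃⟩ := hsh q
            exact QCoh.subsingleton_HH_of_iso e₃.symm _ (hR (q + 2) j))
        (subsingleton_HH_X₃ hS _ (CExt24.subsingleton_HH_of_flasque _ hfl n) hn)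
      exact (ConcreteCategory.bijective_of_isIso (e₂.inv.app ⊤)).injective.subsingleton

/-- A module whose stalks vanish off a finite set of closed points is zero without global sections. -/
theorem isZero_of_finite_of_sections {M : X.Modules} {T : Set X} (hT : T.Finite)
    (hcl : ∀ x ∈ T, IsClosed ({x} : Set X)) (h0 : ∀ x, x ∉ T → Subsingleton (M.presheaf.stalk x))
    (hΓ : Subsingleton Γ(M, ⊤)) : IsZero M := by
  have hTc : ∀ T' : Set X, T' ⊆ T → IsClosed T' := fun T' h => by
    have := Set.Finite.isClosed_biUnion (hT.subset h) (f := fun y => ({y} : Set X)) fun y hy => hcl y (h hy)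
    rwa [Set.biUnion_of_singleton] at this
  have hzero : ∀ (W : X.Opens), (∀ x ∈ W, x ∉ T) → ∀ s : Γ(M, W), s = 0 := fun W hW s => by
    refine QCoh.eq_zero_of_locally W s fun x hx => ?_
    haveI := h0 x (hW x hx)
    obtain ⟨V, hxV, i, j, h⟩ := M.presheaf.germ_eq x hx hx s 0 (Subsingleton.elim _ _)
    exact ⟨V, i, hxV, h.trans (map_zero _)⟩
  have hall : ∀ (U : X.Opens) (s : Γ(M, U)), s = 0 := by
    intro U s
    refine QCoh.eq_zero_of_locally U s fun x hx => ?_
    let W₁ : X.Opens := ⟨(U : Set X) ∩ (T \ {x})ᶜ, U.2.inter (hTc _ Set.sdiff_subset).isOpen_compl⟩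
    have h₁ : W₁ ≤ U := fun z hz => hz.1
    have hx₁ : x ∈ W₁ := ⟨hx, fun h => h.2 rfl⟩
    refine ⟨W₁, homOfLE h₁, hx₁, ?_⟩
    let W₀ : X.Opens := ⟨({x} ∩ T)ᶜ, (hTc _ Set.inter_subset_right).isOpen_compl⟩
    let V : Bool → X.Opens := fun b => cond b W₁ W₀
    let sec : ∀ b, Γ(M, V b) := fun b => Bool.rec (motive := fun b => Γ(M, V b)) 0
      (M.presheaf.map (homOfLE h₁).op s) b
    have hcomp : TopCat.Presheaf.IsCompatible M.presheaf V sec := fun a b => by
      cases a <;> cases b
      · rfl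
      · exact (hzero (W₀ ⊓ W₁) (fun z hz hzT => hz.2.2 ⟨hzT, fun h => hz.1 ⟨h, hzT⟩⟩) _).trans
          (hzero (W₀ ⊓ W₁) (fun z hz hzT => hz.2.2 ⟨hzT, fun h => hz.1 ⟨h, hzT⟩⟩) _).symm
      · exact (hzero (W₁ ⊓ W₀) (fun z hz hzT => hz.1.2 ⟨hzT, fun h => hz.2 ⟨h, hzT⟩⟩) _).trans
          (hzero (W₁ ⊓ W₀) (fun z hz hzT => hz.1.2 ⟨hzT, fun h => hz.2 ⟨h, hzT⟩⟩) _).symm
      · rfl
    obtain ⟨t, ht, -⟩ := TopCat.Sheaf.existsUnique_gluing' ⟨M.presheaf, M.isSheaf⟩ V ⊤
      (fun b => homOfLE le_top) (fun z _ => by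
        by_cases hz : z ∈ ({x} ∩ T : Set X)
        · exact Opens.mem_iSup.2 ⟨true, (hz.1 : z = x) ▸ hx₁⟩
        · exact Opens.mem_iSup.2 ⟨false, hz⟩) sec hcomp
    have := ht true
    rw [hΓ.elim t 0] at this
    exact this.symm.trans (map_zero _)
  refine (IsZero.iff_id_eq_zero M).2 (Scheme.Modules.hom_ext _ _ fun U => ?_)
  ext s
  exact hall U s

/-- A module without stalks is zero. -/
theorem isZero_of_stalks {M : X.Modules} (h0 : ∀ x, Subsingleton (M.presheaf.stalk x)) : IsZero M := by
  refine isZero_of_finite_of_sections Set.finite_empty (fun x hx => hx.elim) (fun x _ => h0 x) ?_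
  refine subsingleton_of_forall_eq 0 fun z => QCoh.eq_zero_of_locally ⊤ z fun x hx => ?_
  haveI := h0 x
  obtain ⟨V, hxV, i, j, h⟩ := M.presheaf.germ_eq x hx hx z 0 (Subsingleton.elim _ _)
  exact ⟨V, i, hxV, h.trans (map_zero _)⟩

/-- A zero module has no cohomology. -/
theorem subsingleton_HH_of_isZero {M : X.Modules} (h : IsZero M) (n : ℕ) : Subsingleton (Coh.HH X M n) := by
  refine subsingleton_of_forall_eq 0 fun x => ?_
  have hz : IsZero ((Sheaf.functorH (Opens.grothendieckTopology X) n).obj ((QCoh.toAbFunctor X).obj M)) :=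
    Functor.map_isZero _ (Functor.map_isZero _ h)
  exact congr(($((IsZero.iff_id_eq_zero _).1 hz)) x)

end Groth.Agent.AVPhi
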