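import Groth.Agent.AVPhi.Vanish
import Groth.Agent.AVPhi.Leray
import Groth.Agent.QCoh.RpushExchange2
import Groth.Agent.H23.Seesaw

/-!
Fibres of the second projection over rational points, and the support of higher direct images.
-/

set_option linter.style.haveILetI false
set_option linter.unusedSectionVars false
set_option backward.isDefEq.respectTransparency false
set_option backward.isDefEq.respectTransparency.types false
set_option autoImplicit false

universe u

open CategoryTheory CategoryTheory.Limits MonoidalCategory CartesianMonoidalCategory MonObj AlgebraicGeometry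
open TopologicalSpace

namespace Groth.Agent.AVPhi

/-- Cohomology is invariant under pulling back along an isomorphism. -/
theorem subsingleton_HH_iff_pullback {U X : Scheme.{u}} (j : U ⟶ X) [IsIso j] {M : X.Modules} (hM : Coh.IsQCoh M)
    (i : ℕ) : Subsingleton (Coh.HH U ((Scheme.Modules.pullback j).obj M) i) ↔ Subsingleton (Coh.HH X M i) := by
  haveI : IsIso ((Scheme.Modules.restrictAdjunction j).unit.app M) := by
    refine Scheme.Modules.Hom.isIso_iff_isIso_app.2 fun V => ?_
    rw [Scheme.Modules.restrictAdjunction_unit_app_app]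
    haveI : IsIso (homOfLE (j.image_preimage_le V)) := by
      have he : j ''ᵁ j ⁻¹ᵁ V = V := by
        rw [Scheme.Hom.image_preimage_eq_opensRange_inf, Scheme.Hom.opensRange_of_isIso, top_inf_eq]
      exact ⟨eqToHom he.symm, Subsingleton.elim _ _, Subsingleton.elim _ _⟩
    infer_instance
  obtain ⟨e⟩ := QCoh.HH_push_of_isAffineHom j (QCoh.isQCoh_restrict j hM) i
  let u := asIso ((Scheme.Modules.restrictAdjunction j).unit.app M)
  let r := (Scheme.Modules.restrictFunctorIsoPullback j).app M
  constructor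
  · intro h
    exact QCoh.subsingleton_HH_of_iso u.symm i
      (@Equiv.subsingleton _ _ e.symm.toEquiv (QCoh.subsingleton_HH_of_iso r.symm i h))
  · intro h
    exact QCoh.subsingleton_HH_of_iso r i (@Equiv.subsingleton _ _ e.toEquiv (QCoh.subsingleton_HH_of_iso u i h))

variable {k : Type u} [Field k] [IsAlgClosed k] (X Y : Over (Spec (CommRingCat.of k))) [IsProper X.hom]

/-- The slice at a rational point. -/
noncomputable abbrev slice (a : 𝟙_ (Over (Spec (CommRingCat.of k))) ⟶ Y) : X ⟶ X ⊗ Y :=
  lift (𝟙 X) (toUnit X ≫ a)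

variable [LocallyOfFiniteType Y.hom] in
/-- The cohomology of the fibre over a rational point is that of the slice. -/
theorem subsingleton_fiberH_iff_slice (K : (X ⊗ Y).left.Modules) (hK : Coh.IsQCoh K)
    (a : 𝟙_ (Over (Spec (CommRingCat.of k))) ⟶ Y) (i : ℕ)
    :
    Subsingleton (CohIII.fiberH (snd X Y).left K (a.left (IsLocalRing.closedPoint k)) i) ↔
      Subsingleton (Coh.HH X.left ((Scheme.Modules.pullback (slice X Y a).left).obj K) i) := by
  let g := Y.left.fromSpecResidueField (a.left (IsLocalRing.closedPoint k))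
  let φ := Scheme.descResidueField (Scheme.stalkClosedPointTo a.left)
  have hd : Spec.map φ ≫ g = a.left := Scheme.descResidueField_stalkClosedPointTo_fromSpecResidueField k _ a.left
  obtain ⟨ψ, hψ⟩ : ∃ ψ, Spec.map ψ = g ≫ Y.hom := ⟨Spec.preimage (g ≫ Y.hom), Spec.map_preimage _⟩
  have hcomp : Spec.map φ ≫ (g ≫ Y.hom) = 𝟙 _ := by rw [← Category.assoc, hd]; exact Over.w a
  have h1 : ψ ≫ φ = 𝟙 _ := Spec.map_injective (by rw [Spec.map_comp, Spec.map_id, hψ]; exact hcomp)
  haveI : IsIso φ := (ConcreteCategory.isIso_iff_bijective φ).2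
    ⟨φ.hom.injective, fun c => ⟨ψ c, congr($h1 c)⟩⟩
  have p₁ : IsPullback (slice X Y a).left X.hom (snd X Y).left a.left := by
    refine IsPullback.of_right (t := IsPullback.of_hasPullback X.hom Y.hom) ?_ ?_
    · have e1 : (slice X Y a).left ≫ pullback.fst X.hom Y.hom = 𝟙 _ := by
        show (slice X Y a).left ≫ (fst X Y).left = _
        rw [← Over.comp_left, slice, lift_fst, Over.id_left]
      have e2 : a.left ≫ Y.hom = 𝟙 (Spec (CommRingCat.of k)) := Over.w a
      rw [e1, e2]
      exact IsPullback.of_horiz_isIso ⟨by simp⟩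
    · show (slice X Y a).left ≫ (snd X Y).left = _
      rw [← Over.comp_left, slice, lift_snd]
      rfl
  have p₂ : IsPullback ((snd X Y).left.fiberι (a.left (IsLocalRing.closedPoint k)))
      ((snd X Y).left.fiberToSpecResidueField (a.left (IsLocalRing.closedPoint k)) ≫ inv (Spec.map φ))
      (snd X Y).left a.left := by
    refine (IsPullback.of_hasPullback (snd X Y).left g).of_iso (Iso.refl _) (Iso.refl _) (asIso (Spec.map φ)).symm
      (Iso.refl _) ?_ ?_ ?_ ?_
    · simp; rfl
    · simp; rfl
    · simp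
    · simp [← hd, g]
  let e := p₂.isoIsPullback _ _ p₁
  have he : e.hom ≫ (slice X Y a).left = (snd X Y).left.fiberι (a.left (IsLocalRing.closedPoint k)) :=
    IsPullback.isoIsPullback_hom_fst _ _ _ _
  let τ := (Scheme.Modules.pullbackComp e.hom (slice X Y a).left).app K ≪≫
    (Scheme.Modules.pullbackCongr he).app K
  exact ⟨fun h => (subsingleton_HH_iff_pullback e.hom (QCoh.isQCoh_pullback _ hK) i).1
      (QCoh.subsingleton_HH_of_iso τ.symm i h),
    fun h => QCoh.subsingleton_HH_of_iso τ i
      ((subsingleton_HH_iff_pullback e.hom (QCoh.isQCoh_pullback _ hK) i).2 h)⟩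

variable [IsProper Y.hom]

/-- The higher direct image in one degree has no stalks outside a finite set containing the bad rational points. -/
theorem subsingleton_stalk_Rpush_of_slice [GeometricallyIntegral X.hom] (K : (X ⊗ Y).left.Modules)
    (hK : PicF.IsInvertible K) {T : Set Y.left} (hT : T.Finite) (hTc : ∀ y ∈ T, IsClosed ({y} : Set Y.left))
    (p : ℕ) (h : ∀ a : 𝟙_ (Over (Spec (CommRingCat.of k))) ⟶ Y, a.left (IsLocalRing.closedPoint k) ∉ T →
      Subsingleton (Coh.HH X.left ((Scheme.Modules.pullback (slice X Y a).left).obj K) p))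
    (y : Y.left) (hy : y ∉ T) [HasInjectiveResolutions (X ⊗ Y).left.Modules] :
    Subsingleton (((Coh.Rpush (snd X Y).left p).obj K).presheaf.stalk y) := by
  haveI : IsProper (snd X Y).left := inferInstanceAs (IsProper (pullback.snd X.hom Y.hom))
  haveI : Flat (snd X Y).left := inferInstanceAs (Flat (pullback.snd X.hom Y.hom))
  haveI : IsLocallyNoetherian Y.left := LocallyOfFiniteType.isLocallyNoetherian Y.hom
  haveI : IsLocallyNoetherian (X ⊗ Y).left := LocallyOfFiniteType.isLocallyNoetherian (snd X Y).left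
  haveI : JacobsonSpace Y.left := LocallyOfFiniteType.jacobsonSpace Y.hom
  have hTcl : IsClosed T := by
    have := Set.Finite.isClosed_biUnion hT (f := fun y => ({y} : Set Y.left)) fun y hy => hTc y hy
    rwa [Set.biUnion_of_singleton] at this
  obtain ⟨z, hz, hzc⟩ := nonempty_inter_closedPoints (Z := closure {y} ∩ Tᶜ) ⟨y, subset_closure rfl, hy⟩
    (isClosed_closure.isLocallyClosed.inter hTcl.isOpen_compl.isLocallyClosed)
  obtain ⟨⟨a, ha⟩, hay⟩ := (pointEquivClosedPoint Y.hom).surjective ⟨z, hzc⟩
  obtain rfl : a (IsLocalRing.closedPoint k) = z := congrArg Subtype.val hay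
  let a' : 𝟙_ (Over (Spec (CommRingCat.of k))) ⟶ Y := Over.homMk a ha
  have hKq : Coh.IsQCoh K := ProjUPX.isQCoh_of_isInvertible hK
  obtain ⟨U, hU, hz'⟩ := QCoh.exists_isZero_nhd (f := (snd X Y).left) (CurveDeg.isCoh_of_isInvertible hK)
    (H23.Seesaw.isFlatOver_of_isInvertible _ hK) (a'.left (IsLocalRing.closedPoint k)) p
    ((subsingleton_fiberH_iff_slice X Y K hKq a' p).2 (h a' hz.2))
  have hyU : y ∈ U := by
    by_contra hyU
    exact (closure_minimal (Set.singleton_subset_iff.2 hyU) U.2.isClosed_compl hz.1) hU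
  let R := ((Coh.Rpush (snd X Y).left p).obj K)
  have e : (R.restrict U.ι).presheaf.stalk ⟨y, hyU⟩ ≅ R.presheaf.stalk y :=
    (Scheme.Modules.restrictStalkNatIso U.ι ⟨y, hyU⟩).app R
  haveI : Subsingleton ((R.restrict U.ι).presheaf.stalk ⟨y, hyU⟩) :=
    AddCommGrpCat.subsingleton_of_isZero ((TopCat.Presheaf.stalkFunctor Ab.{u} (X := U.toScheme.toPresheafedSpace.carrier) ⟨y, hyU⟩).map_isZero
      ((Scheme.Modules.toPresheaf U.toScheme).map_isZero hz'))
  exact e.addCommGroupIsoToAddEquiv.symm.toEquiv.subsingleton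

/-- The higher direct images have no stalks outside a finite set containing the bad rational points. -/
theorem subsingleton_stalk_Rpush_of_slices [GeometricallyIntegral X.hom] (K : (X ⊗ Y).left.Modules)
    (hK : PicF.IsInvertible K) {T : Set Y.left} (hT : T.Finite) (hTc : ∀ y ∈ T, IsClosed ({y} : Set Y.left))
    (h : ∀ a : 𝟙_ (Over (Spec (CommRingCat.of k))) ⟶ Y, a.left (IsLocalRing.closedPoint k) ∉ T →
      ∀ i, Subsingleton (Coh.HH X.left ((Scheme.Modules.pullback (slice X Y a).left).obj K) i))
    (p : ℕ) (y : Y.left) (hy : y ∉ T) [HasInjectiveResolutions (X ⊗ Y).left.Modules] :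
    Subsingleton (((Coh.Rpush (snd X Y).left p).obj K).presheaf.stalk y) :=
  subsingleton_stalk_Rpush_of_slice X Y K hK hT hTc p (fun a ha => h a ha p) y hy

end Groth.Agent.AVPhi
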