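import Groth.Agent.Lib.AVAmple
import Groth.Agent.Lib.AVProj
import Groth.Agent.H23.CubeAb
import Groth.Agent.H23.PicMul

/-!
An invariant invertible module with a nonzero section is trivial.
-/

set_option linter.style.haveILetI false
set_option linter.unusedSectionVars false
set_option backward.isDefEq.respectTransparency false
set_option backward.isDefEq.respectTransparency.types false
set_option autoImplicit false

universe u

open CategoryTheory CategoryTheory.Limits MonoidalCategory CartesianMonoidalCategory MonObj AlgebraicGeometry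
open TopologicalSpace

namespace Groth.Agent.AVPhi

open Groth.Agent.H23 Groth.Agent.H23.TrivBasic Groth.Agent.InvX Groth.Agent.AVPair Groth.Agent.AVAmple
open scoped Groth.Agent.H23.PicMul

variable {k : Type u} [Field k] {A : Over (Spec (CommRingCat.of k))} [GrpObj A] [IsProper A.hom]
  [GeometricallyIntegral A.hom]

/-- A module inverse to its pullback by an automorphism has a nonzero section only if it is trivial. -/
theorem triv_of_section_of_inverse {N : A.left.Modules} (hN : PicF.IsInvertible N) (ν : A.left ⟶ A.left) [IsIso ν]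
    (h : Nonempty (CohB1.tensorMod N ((Scheme.Modules.pullback ν).obj N) ≅ Coh.structureModule A.left))
    {s : Γ(N, ⊤)} (hs : s ≠ 0) : Triv N := by
  haveI : IsIntegral A.left := GeometricallyIntegral.isIntegral_of_subsingleton A.hom
  have hν : PicF.IsInvertible ((Scheme.Modules.pullback ν).obj N) := PicClLib.isInvertible_pullback _ hN
  let t : Γ((Scheme.Modules.pullback ν).obj N, ⊤) := pullElt ν s
  let p : Γ(CohB1.tensorMod N ((Scheme.Modules.pullback ν).obj N), ⊤) := one (mulHom (M := N) (N := (Scheme.Modules.pullback ν).obj N) (ofSect s) (ofSect t))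
  have hloc : locus p = locus s ⊓ ν ⁻¹ᵁ locus s := by
    show CohB1.genLocus _ (ofSect (one _)) = _
    rw [ofSect_one, genLocus_mulHom hN hν]
    congr 1
    exact locus_pullElt hN ν s
  have hne : locus p ≠ ⊥ := by
    rw [hloc]
    have hl := locus_ne_bot hN hs
    obtain ⟨y, hy⟩ := (Opens.ne_bot_iff_nonempty _).1 hl
    obtain ⟨x, rfl⟩ := ν.surjective y
    refine (Opens.ne_bot_iff_nonempty _).2 (nonempty_preirreducible_inter (locus s).isOpen
      (ν ⁻¹ᵁ locus s).isOpen ⟨_, hy⟩ ⟨x, hy⟩)
  obtain ⟨z, hz⟩ := (Opens.ne_bot_iff_nonempty _).1 hne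
  have hp : p ≠ 0 := AVProj.ne_zero_of_mem_locus hz
  have hf : IsFrame p := isFrame_of_ne_zero h (isField_of_universallyClosed k A.hom) hp
  have htop : locus p = ⊤ := locus_eq_top_iff.2 hf
  rw [hloc] at htop
  exact triv_of_frame (locus_eq_top_iff.1 (top_le_iff.1 (htop ▸ inf_le_left)))

/-- An additive invertible module with a nonzero section is trivial. -/
theorem triv_of_section_of_additive {N : A.left.Modules} (hN : PicF.IsInvertible N)
    (hadd : CubeAb.IsAdditive (PicF.cl N)) {s : Γ(N, ⊤)} (hs : s ≠ 0) : Triv N := by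
  have hc : PicF.IsInvertibleCl (PicF.cl N) := ⟨N, rfl, hN⟩
  have h1 : pl ((𝟙 A)⁻¹) (PicF.cl N) * PicF.cl N = 1 := by
    have := hadd.apply ((𝟙 A)⁻¹) (𝟙 A)
    rw [inv_mul_cancel, CubeAb.F_one hc] at this
    exact (congrArg (pl ((𝟙 A)⁻¹) (PicF.cl N) * ·) (pl_id (PicF.cl N)).symm).trans this.symm
  haveI : IsIso ((𝟙 A)⁻¹ : A ⟶ A).left := by
    refine ⟨((𝟙 A)⁻¹ : A ⟶ A).left, ?_, ?_⟩ <;>
      rw [← Over.comp_left, GrpObj.comp_inv, Category.comp_id, _root_.inv_inv, Over.id_left]
  refine triv_of_section_of_inverse hN ((𝟙 A)⁻¹ : A ⟶ A).left ?_ hs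
  refine PicMul.cl_eq_iff.1 ?_
  rw [PicMul.cl_tensor, mul_comm]
  exact h1

/-- An invariant invertible module with a nonzero section is trivial. -/
theorem triv_of_section_of_invariant [IsAlgClosed k] {N : A.left.Modules} (hN : PicF.IsInvertible N)
    (hinv : ∀ a : 𝟙_ (Over (Spec (CommRingCat.of k))) ⟶ A, pl (tr a) (PicF.cl N) = PicF.cl N)
    {s : Γ(N, ⊤)} (hs : s ≠ 0) : Triv N :=
  triv_of_section_of_additive hN (CubeAb.isAdditive_of_invariant ⟨N, rfl, hN⟩ hinv) hs

end Groth.Agent.AVPhi
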