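import Groth.Agent.AVPhi.NoSection
import Groth.Agent.AVSupp.Twist
import Groth.Agent.S0033
import Groth.Agent.S0927
import Groth.Agent.VarBase.RpushEuler
import Groth.Agent.KZ.LFRes
import Groth.Agent.QCoh.LocFree
import Groth.Agent.QCoh.Stalk
import Groth.Agent.QCoh.Pullback
import Groth.Agent.QCoh.RpushModel
import Groth.Agent.QCoh.RpushExchange2
import Groth.Agent.Lib.CurveDeg

/-!
A nontrivial invariant invertible module has no cohomology at all.
-/

set_option linter.style.haveILetI false
set_option linter.unusedSectionVars false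
set_option backward.isDefEq.respectTransparency false
set_option backward.isDefEq.respectTransparency.types false
set_option autoImplicit false

universe u

open CategoryTheory CategoryTheory.Limits MonoidalCategory CartesianMonoidalCategory MonObj AlgebraicGeometry
open TopologicalSpace

namespace Groth.Agent.AVPhi

open Groth.Agent.H23 Groth.Agent.H23.TrivBasic Groth.Agent.InvX Groth.Agent.AVPair Groth.Agent.AVAmple
open scoped Groth.Agent.H23.PicMul

/-- A module on a scheme with one point is free once it is finite locally free. -/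
theorem exists_iso_freeMod {S : Scheme.{u}} [Subsingleton S] [Nonempty S] {V : S.Modules}
    (hV : FlatMod.IsFinLocFree V) : ∃ n : ℕ, Nonempty (V ≅ FlatMod.freeMod S n) := by
  obtain ⟨x⟩ : Nonempty S := inferInstance
  obtain ⟨U, n, hx, ⟨e⟩⟩ := hV x
  haveI : IsIso U.ι := by
    have htop : U = ⊤ := top_le_iff.1 fun y _ => (Subsingleton.elim x y) ▸ hx
    subst htop
    exact inferInstanceAs (IsIso S.topIso.hom)
  have h₁ : (Scheme.Modules.pullback (inv U.ι)).obj ((Scheme.Modules.pullback U.ι).obj V) ≅ V :=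
    (Scheme.Modules.pullbackComp (inv U.ι) U.ι).app V ≪≫
      (Scheme.Modules.pullbackCongr (IsIso.inv_hom_id U.ι)).app V ≪≫ (Scheme.Modules.pullbackId S).app V
  let F := Scheme.Modules.pullback (inv U.ι)
  let g : ∀ _ : Fin n, F.obj (Coh.structureModule U.toScheme) ≅ Coh.structureModule S := fun _ =>
    (PicClLib.nonempty_pullback_structureModule (inv U.ι)).some
  exact ⟨n, ⟨h₁.symm ≪≫ F.mapIso ((Scheme.Modules.restrictFunctorIsoPullback U.ι).app V).symm ≪≫ F.mapIso e ≪≫
    PreservesCoproduct.iso F _ ≪≫ Sigma.mapIso g⟩⟩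

/-- No nonzero section in a twist of a nonzero free module by a module without sections: it is not free. -/
theorem eq_zero_of_iso_tensor_free {X : Scheme.{u}} [Nonempty X] {N : X.Modules} (hN : PicF.IsInvertible N)
    (h0 : ∀ s : Γ(N, ⊤), s = 0) (n : ℕ)
    (e : CohB1.tensorMod (FlatMod.freeMod X n) N ≅ FlatMod.freeMod X n) : n = 0 := by
  by_contra hn
  haveI := AVSupp.isEquivalence_tensorRightMod hN
  let T := DCoh.tensorRightMod N
  let g : ∀ _ : Fin n, T.obj (Coh.structureModule X) ≅ N := fun _ =>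
    ((PicMul.comm (Coh.structureModule X) N).some ≪≫ (KFlatLib.tensorStructureIso X).app N)
  let e' : FlatMod.freeMod X n ≅ ∐ fun _ : Fin n => N :=
    e.symm ≪≫ PreservesCoproduct.iso T _ ≪≫ Sigma.mapIso g
  haveI := QCoh.hasFiniteBiproducts X
  have hz : ∀ φ : Coh.structureModule X ⟶ ∐ fun _ : Fin n => N, φ = 0 := by
    intro φ
    let b := (biproduct.isoCoproduct fun _ : Fin n => N)
    suffices φ ≫ b.inv = 0 by simpa using congrArg (· ≫ b.hom) this
    refine biproduct.hom_ext _ _ fun j => ?_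
    rw [zero_comp, Category.assoc]
    have := h0 (one (φ ≫ b.inv ≫ biproduct.π _ j))
    refine (ofSect_one _).symm.trans ((congrArg ofSect (this.trans ?_)).trans (ofSect_one (0 : Coh.structureModule X ⟶ N)))
    rfl
  let j : Fin n := ⟨0, Nat.pos_of_ne_zero hn⟩
  let jι := Sigma.ι (fun _ : Fin n => Coh.structureModule X) j
  have h1 : jι = 0 := by
    have := congrArg (· ≫ e'.inv) (hz (jι ≫ e'.hom))
    simpa using this
  have h2 : 𝟙 (Coh.structureModule X) = 0 := by
    have := congrArg (· ≫ Sigma.desc fun _ : Fin n => 𝟙 (Coh.structureModule X)) h1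
    simpa [jι] using this
  obtain ⟨x⟩ : Nonempty X := inferInstance
  have h3 : (1 : Γ(X, ⊤)) = 0 := congr(($h2).app ⊤ (1 : Γ(X, ⊤)))
  have h4 := congrArg (X.presheaf.germ ⊤ x trivial) h3
  rw [map_one, map_zero] at h4
  exact one_ne_zero h4

variable {k : Type u} [Field k] {A : Over (Spec (CommRingCat.of k))} [GrpObj A] [IsProper A.hom]
  [GeometricallyIntegral A.hom]

/-- The shear of `A ⊗ A` over the first factor. -/
noncomputable def shear : A ⊗ A ≅ A ⊗ A where
  hom := lift (fst A A) (fst A A * snd A A)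
  inv := lift (fst A A) ((fst A A)⁻¹ * snd A A)
  hom_inv_id := by
    refine CartesianMonoidalCategory.hom_ext _ _ (by simp) ?_
    simp [MonObj.comp_mul, GrpObj.comp_inv]
  inv_hom_id := by
    refine CartesianMonoidalCategory.hom_ext _ _ (by simp) ?_
    simp [MonObj.comp_mul]

/-- A module which is additive along the group law and has no sections has no cohomology. -/
theorem subsingleton_HH_of_additive {N : A.left.Modules} (hN : PicF.IsInvertible N)
    (hadd : pl (fst A A * snd A A) (PicF.cl N) = pl (fst A A) (PicF.cl N) * pl (snd A A) (PicF.cl N))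
    (h0 : ∀ s : Γ(N, ⊤), s = 0) (i : ℕ) : Subsingleton (Coh.HH A.left N i) := by
  haveI : IsIntegral A.left := GeometricallyIntegral.isIntegral_of_subsingleton A.hom
  haveI : AlgebraicGeometry.IsNoetherian A.left :=
    haveI := LocallyOfFiniteType.isLocallyNoetherian A.hom
    haveI := QuasiCompact.compactSpace_of_compactSpace A.hom
    { }
  haveI : IsLocallyNoetherian A.left := LocallyOfFiniteType.isLocallyNoetherian A.hom
  haveI : IsProper (fst A A).left := inferInstanceAs (IsProper (pullback.fst A.hom A.hom))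
  haveI : IsLocallyNoetherian (A ⊗ A).left := LocallyOfFiniteType.isLocallyNoetherian (fst A A).left
  haveI : HasInjectiveResolutions A.left.Modules := KFlatLib.hasInjectiveResolutions_modules
  haveI : HasInjectiveResolutions (A ⊗ A).left.Modules := KFlatLib.hasInjectiveResolutions_modules
  let p₁ := (fst A A).left
  let p₂ := (snd A A).left
  let σ := ((shear (A := A)).hom).left
  haveI : IsIso σ := ((Over.forget _).mapIso (shear (A := A))).isIso_hom
  let P := (Scheme.Modules.pullback p₂).obj N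
  let V := (Coh.Rpush A.hom i).obj N
  let Q := (Coh.Rpush p₁ i).obj P
  have hNq : Coh.IsQCoh N := ProjUPX.isQCoh_of_isInvertible hN
  haveI := hNq
  have hP : Coh.IsQCoh P := QCoh.isQCoh_pullback p₂ hNq
  haveI := hP
  obtain ⟨eQ⟩ := Groth.Agent.S0033.result A.hom A.hom p₂ p₁ (IsPullback.of_hasPullback A.hom A.hom).flip N i
  obtain ⟨eσ⟩ := Groth.Agent.S0033.result p₁ (𝟙 A.left) σ p₁
    (IsPullback.of_horiz_isIso ⟨by rw [Category.comp_id, ← Over.comp_left, shear, lift_fst]⟩) P i
  have eP : (Scheme.Modules.pullback σ).obj P ≅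
      CohB1.tensorMod ((Scheme.Modules.pullback p₁).obj N) P := by
    refine (PicMul.cl_eq_iff.1 ?_).some
    rw [PicMul.cl_tensor]
    show pl (shear (A := A)).hom (pl (snd A A) (PicF.cl N)) = pl (fst A A) (PicF.cl N) * pl (snd A A) (PicF.cl N)
    rw [pl_pl, shear, lift_snd]
    exact hadd
  obtain ⟨eT⟩ := Groth.Agent.S0927.result p₁ P N (fun y => let ⟨U, hy, he⟩ := InvEnd.isFinLocFreeOfRank_one hN y; ⟨U, 1, hy, he⟩) i
  have e₁ : CohB1.tensorMod N Q ≅ Q :=
    eT ≪≫ (Coh.Rpush p₁ i).mapIso eP.symm ≪≫ eσ.symm ≪≫ (Scheme.Modules.pullbackId A.left).app Q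
  haveI : Subsingleton ↥(Spec (CommRingCat.of k)) := inferInstanceAs (Subsingleton (PrimeSpectrum k))
  haveI : Nonempty ↥(Spec (CommRingCat.of k)) := inferInstanceAs (Nonempty (PrimeSpectrum k))
  have hV : Coh.IsCoh V := VarBase.isCoh_Rpush A.hom (CurveDeg.isCoh_of_isInvertible hN) i
  have htop : IsAffineOpen (⊤ : (Spec (CommRingCat.of k)).Opens) := isAffineOpen_top _
  have hVf : FlatMod.IsFinLocFree V := QCoh.isFlat_and_isFP_iff.1 ⟨fun x =>
    (QCoh.flat_sections_iff hV.1 htop).1 (by
      letI := ((Scheme.ΓSpecIso (CommRingCat.of k)).commRingCatIsoToRingEquiv.toMulEquiv.isField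
        (Field.toIsField k)).toField
      infer_instance) x trivial, KZ.LFRes.isFP_of_isCoh hV⟩
  obtain ⟨n, ⟨eV⟩⟩ := exists_iso_freeMod hVf
  let F := Scheme.Modules.pullback A.hom
  have eF : Q ≅ FlatMod.freeMod A.left n :=
    eQ.symm ≪≫ F.mapIso eV ≪≫ PreservesCoproduct.iso F _ ≪≫
      Sigma.mapIso (fun _ => (PicClLib.nonempty_pullback_structureModule A.hom).some)
  have hn := eq_zero_of_iso_tensor_free hN h0 n
    ((DCoh.tensorRightMod N).mapIso eF.symm ≪≫ (PicMul.comm Q N).some ≪≫ e₁ ≪≫ eF)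
  subst hn
  haveI : Subsingleton Γ(V, ⊤) := QCoh.subsingleton_Γ_of_isZero
    (IsZero.of_iso (QCoh.isZero_freeMod_zero' _) eV) ⊤
  obtain ⟨eH⟩ := QCoh.nonempty_sections_HH (f := A.hom) hNq htop i
  haveI : Subsingleton (Coh.HH (A.hom ⁻¹ᵁ ⊤).toScheme (N.restrict (A.hom ⁻¹ᵁ ⊤).ι) i) :=
    eH.symm.toEquiv.subsingleton
  let j := (A.hom ⁻¹ᵁ (⊤ : (Spec (CommRingCat.of k)).Opens)).ι
  haveI : IsIso j := inferInstanceAs (IsIso A.left.topIso.hom)
  haveI : IsIso ((Scheme.Modules.restrictAdjunction j).unit.app N) := by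
    refine Scheme.Modules.Hom.isIso_iff_isIso_app.2 fun U => ?_
    rw [Scheme.Modules.restrictAdjunction_unit_app_app]
    haveI : IsIso (homOfLE (j.image_preimage_le U)) := by
      have he : j ''ᵁ j ⁻¹ᵁ U = U := by
        rw [Scheme.Hom.image_preimage_eq_opensRange_inf, Scheme.Hom.opensRange_of_isIso, top_inf_eq]
      exact ⟨eqToHom he.symm, Subsingleton.elim _ _, Subsingleton.elim _ _⟩
    infer_instance
  obtain ⟨eA⟩ := QCoh.HH_push_of_isAffineHom j (QCoh.isQCoh_restrict j hNq) i
  exact QCoh.subsingleton_HH_of_iso (asIso ((Scheme.Modules.restrictAdjunction j).unit.app N)).symm i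
    eA.symm.toEquiv.subsingleton

/-- A nontrivial invariant invertible module has no cohomology at all. -/
theorem subsingleton_HH_of_invariant [IsAlgClosed k] {N : A.left.Modules} (hN : PicF.IsInvertible N)
    (hinv : ∀ a : 𝟙_ (Over (Spec (CommRingCat.of k))) ⟶ A, pl (tr a) (PicF.cl N) = PicF.cl N)
    (hnt : ¬ Triv N) (i : ℕ) : Subsingleton (Coh.HH A.left N i) :=
  subsingleton_HH_of_additive hN (CubeAb.isAdditive_of_invariant ⟨N, rfl, hN⟩ hinv)
    (fun _ => by_contra fun hs => hnt (triv_of_section_of_invariant hN hinv hs)) i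

/-- The structure module has sections. -/
theorem not_subsingleton_HH_zero_structure (A : Over (Spec (CommRingCat.of k))) [GrpObj A] :
    ¬ Subsingleton (Coh.HH A.left (Coh.structureModule A.left) 0) := fun h => by
  haveI : Nonempty A.left := ⟨η[A].left (IsLocalRing.closedPoint k)⟩
  haveI := h
  haveI : Subsingleton Γ(A.left, ⊤) := (Sheaf.H.equiv₀ (Coh.toAb (Coh.structureModule A.left))
    isTerminalTop).symm.toEquiv.subsingleton
  obtain ⟨x⟩ : Nonempty A.left := inferInstance
  have h4 := congrArg (A.left.presheaf.germ ⊤ x trivial) (Subsingleton.elim (1 : Γ(A.left, ⊤)) 0)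
  rw [map_one, map_zero] at h4
  exact one_ne_zero h4

end Groth.Agent.AVPhi
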